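import Mathlib
import Groth.Prelude.Def_W4c2ratsingkovacsGH
import Groth.Agent.ProjStalkLib.Basic

/-!
Homogeneous prime avoidance and heights of homogeneous localizations of ideals.
-/

set_option autoImplicit false
set_option linter.style.haveILetI false

universe u v

namespace Groth.Agent.GeomHeightLib

open HomogeneousLocalization W4c2ratsingkovacs AlgebraicGeometry.ProjIsoSpecTopComponent.FromSpec

variable {R : Type u} {A : Type v} [CommRing R] [CommRing A] [Algebra R A]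
variable (𝒜 : ℕ → Submodule R A) [GradedRing 𝒜]

theorem isNoetherianRing_away [IsNoetherianRing A] (f : A) :
    IsNoetherianRing (Away 𝒜 f) := by
  let 𝒜' : ℕ → AddSubgroup A := fun i => (𝒜 i).toAddSubgroup
  letI : GradedRing 𝒜' :=
    { one_mem := SetLike.one_mem_graded 𝒜
      mul_mem := fun _ _ _ _ h₁ h₂ => SetLike.mul_mem_graded (A := 𝒜) h₁ h₂
      decompose' := fun a => DirectSum.decompose 𝒜 a
      left_inv := fun a => (DirectSum.decompose 𝒜).left_inv a
      right_inv := fun a => (DirectSum.decompose 𝒜).right_inv a }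
  haveI := Groth.Agent.ProjStalkLib.isNoetherianRing 𝒜' (Submonoid.powers f)
  let g : 𝒜' →+*ᵍ 𝒜 := ⟨RingHom.id A, fun h => h⟩
  refine isNoetherianRing_of_surjective (HomogeneousLocalization 𝒜' (Submonoid.powers f)) _
    (HomogeneousLocalization.map g (P := Submonoid.powers f) (Q := Submonoid.powers f) fun _ h => h) ?_
  intro x
  obtain ⟨c, rfl⟩ := HomogeneousLocalization.mk_surjective x
  refine ⟨HomogeneousLocalization.mk ⟨c.deg, ⟨c.num, c.num.2⟩, ⟨c.den, c.den.2⟩, c.den_mem⟩, ?_⟩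
  rw [HomogeneousLocalization.map_mk]
  rfl

/-- Homogeneous prime avoidance: some homogeneous element of positive degree of `J` avoids finitely
many prime ideals, none containing `J` or the irrelevant ideal. -/
theorem exists_homogeneous_avoid (J : Ideal A) (hJ : J.IsHomogeneous 𝒜) (a : A) (d : ℕ) (hd : 0 < d)
    (ha : a ∈ 𝒜 d) (haJ : a ∈ J) (P : Finset (Ideal A))
    (hP : ∀ q ∈ P, q.IsPrime ∧ ¬ J ≤ q ∧ ¬ (HomogeneousIdeal.irrelevant 𝒜).toIdeal ≤ q) :
    ∃ z : A, (∃ n, 0 < n ∧ z ∈ 𝒜 n) ∧ z ∈ J ∧ ∀ q ∈ P, z ∉ q := by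
  classical
  induction P using Finset.strongInduction with
  | _ P ih =>
    rcases P.eq_empty_or_nonempty with rfl | hne
    · exact ⟨a, ⟨d, hd, ha⟩, haJ, by simp⟩
    obtain ⟨q, hq, hmin⟩ := P.exists_minimalFor (fun q : Ideal A => (q.homogeneousCore 𝒜).toIdeal) hne
    obtain ⟨hqp, hqJ, hqI⟩ := hP q hq
    obtain ⟨z, ⟨n, hn, hzn⟩, hzJ, hz⟩ := ih (P.erase q) (Finset.erase_ssubset hq)
      fun l hl => hP l (Finset.mem_of_mem_erase hl)
    by_cases hzq : z ∈ q
    swap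
    · exact ⟨z, ⟨n, hn, hzn⟩, hzJ, fun l hl => if h : l = q then h ▸ hzq else hz l (Finset.mem_erase.2 ⟨h, hl⟩)⟩
    -- a homogeneous element of positive degree of `J` outside `q`
    have hJq : ∃ b e, 0 < e ∧ b ∈ 𝒜 e ∧ b ∈ J ∧ b ∉ q := by
      obtain ⟨x, hxJ, hxq⟩ := SetLike.not_le_iff_exists.1 hqJ
      obtain ⟨y, hyI, hyq⟩ := SetLike.not_le_iff_exists.1 hqI
      obtain ⟨i, hi⟩ : ∃ i, (DirectSum.decompose 𝒜 x i : A) ∉ q := by
        by_contra! h
        exact hxq (DirectSum.sum_support_decompose 𝒜 x ▸ q.sum_mem fun i _ => h i)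
      obtain ⟨j, hj⟩ : ∃ j, (DirectSum.decompose 𝒜 y j : A) ∉ q := by
        by_contra! h
        exact hyq (DirectSum.sum_support_decompose 𝒜 y ▸ q.sum_mem fun i _ => h i)
      have hj0 : 0 < j := by
        rcases Nat.eq_zero_or_pos j with rfl | h
        · refine absurd ?_ hj
          have h0 := (HomogeneousIdeal.mem_irrelevant_iff 𝒜 y).1 hyI
          rw [GradedRing.proj_apply] at h0
          rw [h0]
          exact q.zero_mem
        · exact h
      exact ⟨_, i + j, by omega, SetLike.mul_mem_graded (SetLike.coe_mem _) (SetLike.coe_mem _),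
        J.mul_mem_right _ (hJ i hxJ), fun h => (hqp.mem_or_mem h).elim hi hj⟩
    obtain ⟨b, e, he, hbe, hbJ, hbq⟩ := hJq
    have hsep : ∀ l ∈ P.erase q, (z ∉ l ∧ ∃ c k, c ∈ 𝒜 k ∧ c ∈ l ∧ c ∉ q) := by
      intro l hl
      refine ⟨hz l hl, ?_⟩
      by_contra hcon
      push Not at hcon
      have hle : (l.homogeneousCore 𝒜).toIdeal ≤ (q.homogeneousCore 𝒜).toIdeal := by
        show Ideal.span (((↑) : Subtype (SetLike.IsHomogeneousElem 𝒜) → A) '' (((↑) : Subtype (SetLike.IsHomogeneousElem 𝒜) → A) ⁻¹' (l : Set A))) ≤ _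
        refine Ideal.span_le.2 ?_
        rintro _ ⟨⟨c, k, hck⟩, hc, rfl⟩
        exact Ideal.mem_homogeneousCore_of_homogeneous_of_mem ⟨k, hck⟩
          (hcon c k hck hc)
      have h2 := hmin (Finset.mem_of_mem_erase hl) hle
      have hzl : z ∈ (q.homogeneousCore 𝒜).toIdeal := Ideal.mem_homogeneousCore_of_homogeneous_of_mem ⟨n, hzn⟩ hzq
      exact hz l hl (l.toIdeal_homogeneousCore_le 𝒜 (h2 hzl))
    choose hzl c k hck hcl hcq using hsep
    let w : A := (∏ l ∈ (P.erase q).attach, c l.1 l.2) * b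
    let D : ℕ := (∑ l ∈ (P.erase q).attach, k l.1 l.2) + e
    have hw : w ∈ 𝒜 D := SetLike.mul_mem_graded (SetLike.prod_mem_graded _ _ _ fun l _ => hck l.1 l.2) hbe
    have hwq : w ∉ q := fun h => by
      rcases hqp.mem_or_mem h with h | h
      · obtain ⟨l, -, hl⟩ := hqp.prod_mem_iff.1 h
        exact hcq _ _ hl
      · exact hbq h
    have hD : 0 < D := by omega
    refine ⟨z ^ D + w ^ n, ⟨D * n, Nat.mul_pos hD hn, ?_⟩, ?_, fun l hl => ?_⟩
    · refine add_mem ?_ ?_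
      · simpa [smul_eq_mul] using SetLike.pow_mem_graded D hzn
      · rw [mul_comm]
        simpa [smul_eq_mul] using SetLike.pow_mem_graded n hw
    · exact add_mem (J.pow_mem_of_mem hzJ _ hD) (J.pow_mem_of_mem (J.mul_mem_left _ hbJ) _ hn)
    · rcases eq_or_ne l q with rfl | hlq
      · intro h
        exact hwq (hqp.mem_of_pow_mem n ((add_mem_cancel_left (l.pow_mem_of_mem hzq _ hD)).1 h))
      · have hl' := Finset.mem_erase.2 ⟨hlq, hl⟩
        intro h
        have hwl : w ∈ l := l.mul_mem_right _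
          (Ideal.prod_mem l (Finset.mem_attach _ ⟨l, hl'⟩) (hcl l hl'))
        exact hz l hl' ((hP l hl).1.mem_of_pow_mem D ((add_mem_cancel_right (l.pow_mem_of_mem hwl _ hn)).1 h))

/-- The element `z ^ m / f ^ d` of `A_(f)`. -/
def ratio {f : A} {m : ℕ} (hf : f ∈ 𝒜 m) {z : A} {d : ℕ} (hz : z ∈ 𝒜 d) : Away 𝒜 f :=
  HomogeneousLocalization.mk ⟨m * d, ⟨z ^ m, SetLike.pow_mem_graded m hz⟩,
    ⟨f ^ d, by rw [mul_comm]; exact SetLike.pow_mem_graded d hf⟩, ⟨_, rfl⟩⟩

theorem ratio_mem_locIdeal {I : Ideal A} {f : A} {m : ℕ} (hm : 0 < m) (hf : f ∈ 𝒜 m) {z : A} {d : ℕ}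
    (hz : z ∈ 𝒜 d) (hzI : z ∈ I) : ratio 𝒜 hf hz ∈ locIdeal 𝒜 I f := by
  rw [locIdeal, ratio, Ideal.mem_comap, HomogeneousLocalization.algebraMap_apply,
    HomogeneousLocalization.val_mk, Localization.mk_eq_mk', IsLocalization.mk'_eq_mul_mk'_one]
  exact Ideal.mul_mem_right _ _ (Ideal.mem_map_of_mem _ (I.pow_mem_of_mem hzI _ hm))

theorem locIdeal_mono {I J : Ideal A} (h : I ≤ J) (f : A) : locIdeal 𝒜 I f ≤ locIdeal 𝒜 J f :=
  Ideal.comap_mono (Ideal.map_mono h)

theorem locIdeal_le_of_prime {f : A} {m : ℕ} (hm : 0 < m) (hf : f ∈ 𝒜 m)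
    (q : PrimeSpectrum (Away 𝒜 f)) {I : Ideal A} (h : I ≤ carrier.asIdeal hf hm q) :
    locIdeal 𝒜 I f ≤ q.asIdeal := by
  intro x hx
  obtain ⟨c, rfl⟩ := HomogeneousLocalization.mk_surjective x
  refine (num_mem_carrier_iff hf hm q c).1 ?_
  haveI := carrier.asIdeal.prime hf hm q
  have hdis : Disjoint (Submonoid.powers f : Set A) (carrier.asIdeal hf hm q) := by
    rw [Ideal.disjoint_powers_iff_notMem_of_isPrime]
    exact carrier.denom_notMem hf hm q
  have h2 : (HomogeneousLocalization.mk c).val ∈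
      (carrier.asIdeal hf hm q).map (algebraMap A (Localization.Away f)) := Ideal.map_mono h hx
  rw [HomogeneousLocalization.val_mk, Localization.mk_eq_mk',
    IsLocalization.mk'_mem_map_algebraMap_iff] at h2
  obtain ⟨s, hs, hsc⟩ := h2
  rcases (carrier.asIdeal.prime hf hm q).mem_or_mem hsc with h' | h'
  · exact absurd h' (Set.disjoint_left.1 hdis hs)
  · exact h'

theorem mem_carrier_of_ratio_mem {f : A} {m : ℕ} (hm : 0 < m) (hf : f ∈ 𝒜 m)
    (q : PrimeSpectrum (Away 𝒜 f)) {z : A} {d : ℕ} (hz : z ∈ 𝒜 d) (h : ratio 𝒜 hf hz ∈ q.asIdeal) :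
    z ∈ carrier.asIdeal hf hm q :=
  (mem_carrier_iff_of_mem hf hm q z hz).2 h

end Groth.Agent.GeomHeightLib
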