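import Groth.Agent.GeomHeightLib.Basic

/-!
Sequences of homogeneous elements cutting down the geometric height one at a time.
-/

set_option autoImplicit false
set_option linter.style.haveILetI false

universe u v

namespace Groth.Agent.GeomHeightLib

open HomogeneousLocalization W4c2ratsingkovacs AlgebraicGeometry.ProjIsoSpecTopComponent.FromSpec

variable {R : Type u} {A : Type v} [CommRing R] [CommRing A] [Algebra R A]
variable (𝒜 : ℕ → Submodule R A) [GradedRing 𝒜]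

theorem isPrime_locIdeal {q : Ideal A} (hq : q.IsPrime) {f : A} (hf : f ∉ q) :
    (locIdeal 𝒜 q f).IsPrime :=
  Ideal.IsPrime.comap _ (hK := IsLocalization.isPrime_of_isPrime_disjoint (Submonoid.powers f) _ q hq
    ((Ideal.disjoint_powers_iff_notMem_of_isPrime _).2 hf))

theorem mem_of_ratio_mem_locIdeal {q : Ideal A} (hq : q.IsPrime) {f : A} (hfq : f ∉ q) {m : ℕ}
    (hf : f ∈ 𝒜 m) {z : A} {d : ℕ} (hz : z ∈ 𝒜 d) (h : ratio 𝒜 hf hz ∈ locIdeal 𝒜 q f) : z ∈ q := by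
  rw [locIdeal, ratio, Ideal.mem_comap, HomogeneousLocalization.algebraMap_apply,
    HomogeneousLocalization.val_mk, Localization.mk_eq_mk', IsLocalization.mk'_mem_map_algebraMap_iff] at h
  obtain ⟨s, ⟨i, rfl⟩, hs⟩ := h
  rcases hq.mem_or_mem hs with h' | h'
  · exact absurd (hq.mem_of_pow_mem i h') hfq
  · exact hq.mem_of_pow_mem m h'

theorem le_height_insert [IsNoetherianRing A] {J : Ideal A} {h : ℕ}
    (hJh : HasUniformGeomHeight 𝒜 J h) {f : A} {m : ℕ} (hm : 0 < m) (hf : f ∈ 𝒜 m) (hfJ : f ∉ J.radical)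
    {I : Ideal A} (L : List A) (hIL : I = Ideal.ofList L) (hLdeg : ∀ x ∈ L, ∃ d, x ∈ 𝒜 d)
    {k : ℕ} (hk : k < h)
    (hI : ∀ Q : Ideal (Away 𝒜 f), Q.IsPrime → locIdeal 𝒜 I f ≤ Q → (k : ℕ∞) ≤ Q.height)
    {z : A} {d : ℕ} (hz : z ∈ 𝒜 d)
    (hav : ∀ q ∈ I.minimalPrimes, f ∉ q → ¬ J ≤ q → z ∉ q)
    (Q : Ideal (Away 𝒜 f)) (hQ : Q.IsPrime) (hle : locIdeal 𝒜 (I ⊔ Ideal.span {z}) f ≤ Q) :
    ((k + 1 : ℕ) : ℕ∞) ≤ Q.height := by
  haveI := isNoetherianRing_away 𝒜 f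
  by_contra hlt
  haveI := hQ
  obtain ⟨Q1, hQ1m, hQ1Q⟩ := Ideal.exists_minimalPrimes_le ((locIdeal_mono 𝒜 le_sup_left f).trans hle)
  haveI := hQ1m.1.1
  have hQ1h := hI Q1 hQ1m.1.1 hQ1m.1.2
  have heq : Q1 = Q := by
    by_contra hne
    have h1 := Ideal.height_add_one_le_of_lt_of_isPrime (lt_of_le_of_ne hQ1Q hne)
    refine hlt (le_trans ?_ h1)
    push_cast
    exact add_le_add hQ1h le_rfl
  subst heq
  let p : PrimeSpectrum (Away 𝒜 f) := ⟨Q1, hQ1m.1.1⟩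
  haveI := carrier.asIdeal.prime hf hm p
  have hIc : I ≤ carrier.asIdeal hf hm p := by
    rw [hIL]
    refine Ideal.span_le.2 fun x hx => ?_
    obtain ⟨e, he⟩ := hLdeg x hx
    exact mem_carrier_of_ratio_mem 𝒜 hm hf p he
      (hQ1m.1.2 (ratio_mem_locIdeal 𝒜 hm hf he (hIL ▸ Ideal.subset_span hx)))
  obtain ⟨q', hq'm, hq'c⟩ := Ideal.exists_minimalPrimes_le hIc
  have hfq' : f ∉ q' := fun hh => carrier.denom_notMem hf hm p (hq'c hh)
  have hle' : locIdeal 𝒜 q' f ≤ Q1 := locIdeal_le_of_prime 𝒜 hm hf p hq'c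
  have hge : Q1 ≤ locIdeal 𝒜 q' f :=
    hQ1m.2 ⟨isPrime_locIdeal 𝒜 hq'm.1.1 hfq', locIdeal_mono 𝒜 hq'm.1.2 f⟩ hle'
  by_cases hJq : J ≤ q'
  · refine hlt (le_trans ?_ (Ideal.height_mono ((locIdeal_mono 𝒜 hJq f).trans hle')))
    exact le_trans (Nat.cast_le.2 hk) (hJh f m hm hf hfJ).ge
  · exact hav q' hq'm hfq' hJq (mem_of_ratio_mem_locIdeal 𝒜 hq'm.1.1 hfq' hf hz
      (hge (hle (ratio_mem_locIdeal 𝒜 hm hf hz (Ideal.mem_sup_right (Ideal.mem_span_singleton_self z))))))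

theorem height_le_length [IsNoetherianRing A] {J : Ideal A} {f : A} {m : ℕ} (hm : 0 < m) (hf : f ∈ 𝒜 m)
    (hfJ : f ∉ J.radical) (L : List A) (hLdeg : ∀ x ∈ L, ∃ d, x ∈ 𝒜 d) (hLJ : ∀ x ∈ L, x ∈ J) :
    geomHeight 𝒜 (Ideal.ofList L) f ≤ (L.length : ℕ∞) := by
  classical
  haveI := isNoetherianRing_away 𝒜 f
  choose d hd using hLdeg
  let s : Finset (Away 𝒜 f) := L.toFinset.attach.image fun x => ratio 𝒜 hf (hd x.1 (List.mem_toFinset.1 x.2))
  have hK : Ideal.span (s : Set (Away 𝒜 f)) ≤ locIdeal 𝒜 (Ideal.ofList L) f := by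
    refine Ideal.span_le.2 fun x hx => ?_
    obtain ⟨y, -, rfl⟩ := Finset.mem_image.1 (Finset.mem_coe.1 hx)
    exact ratio_mem_locIdeal 𝒜 hm hf _ (Ideal.subset_span (List.mem_toFinset.1 y.2))
  have hne : Ideal.span (s : Set (Away 𝒜 f)) ≠ ⊤ := fun ht => by
    have h1 : (1 : Away 𝒜 f) ∈ locIdeal 𝒜 J f :=
      locIdeal_mono 𝒜 (Ideal.span_le.2 fun x hx => hLJ x hx) f (hK (ht ▸ Submodule.mem_top))
    rw [locIdeal, Ideal.mem_comap, map_one, ← map_one (algebraMap A (Localization.Away f)),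
      IsLocalization.algebraMap_mem_map_algebraMap_iff (Submonoid.powers f)] at h1
    obtain ⟨_, ⟨i, rfl⟩, hi⟩ := h1
    exact hfJ ⟨i, by simpa using hi⟩
  obtain ⟨Q, hQ⟩ := Ideal.nonempty_minimalPrimes hne
  let p : PrimeSpectrum (Away 𝒜 f) := ⟨Q, hQ.1.1⟩
  have hle : locIdeal 𝒜 (Ideal.ofList L) f ≤ Q := by
    refine locIdeal_le_of_prime 𝒜 hm hf p (Ideal.span_le.2 fun x hx => ?_)
    refine mem_carrier_of_ratio_mem 𝒜 hm hf p (hd x hx) (hQ.1.2 (Ideal.subset_span ?_))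
    exact Finset.mem_image.2 ⟨⟨x, List.mem_toFinset.2 hx⟩, Finset.mem_attach _ _, rfl⟩
  haveI := hQ.1.1
  refine (Ideal.height_mono hle).trans ((Ideal.height_le_card_of_mem_minimalPrimes_span_finset hQ).trans ?_)
  exact Nat.cast_le.2 (Finset.card_image_le.trans (by rw [Finset.card_attach]; exact L.toFinset_card_le))

theorem exists_seq [IsNoetherianRing A] (J : Ideal A) (hJ : J.IsHomogeneous 𝒜) (h : ℕ)
    (hJh : HasUniformGeomHeight 𝒜 J h) (P : Finset (Ideal A))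
    (hP : ∀ q ∈ P, q.IsPrime ∧ ¬ J ≤ q ∧ ¬ (HomogeneousIdeal.irrelevant 𝒜).toIdeal ≤ q) :
    ∀ k, k ≤ h → ∃ zs : List A, zs.length = k ∧
      (∀ z ∈ zs, (∃ n : ℕ, 0 < n ∧ z ∈ 𝒜 n) ∧ z ∈ J ∧ ∀ q ∈ P, z ∉ q) ∧
      ∀ (f : A) (n : ℕ), 0 < n → f ∈ 𝒜 n → f ∉ J.radical → ∀ j ≤ k,
        ∀ Q : Ideal (Away 𝒜 f), Q.IsPrime → locIdeal 𝒜 (Ideal.ofList (zs.take j)) f ≤ Q → (j : ℕ∞) ≤ Q.height := by
  classical
  intro k
  induction k with
  | zero =>
    intro _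
    refine ⟨[], rfl, by simp, fun f n _ _ _ j hj Q _ _ => ?_⟩
    obtain rfl : j = 0 := by omega
    simp
  | succ k ih =>
    intro hk
    obtain ⟨L, hLlen, hL, hLh⟩ := ih (by omega)
    let I := Ideal.ofList L
    let T : Finset (Ideal A) := I.finite_minimalPrimes_of_isNoetherianRing.toFinset.filter
      fun q => ¬ J ≤ q ∧ ¬ (HomogeneousIdeal.irrelevant 𝒜).toIdeal ≤ q
    obtain ⟨z, hzdeg, hzJ, hz⟩ := exists_homogeneous_avoid 𝒜 J hJ 0 1 one_pos (zero_mem _) J.zero_mem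
      (P ∪ T) fun q hq => by
        rcases Finset.mem_union.1 hq with hq | hq
        · exact hP q hq
        · obtain ⟨hq1, hq2⟩ := Finset.mem_filter.1 hq
          exact ⟨((Set.Finite.mem_toFinset _).1 hq1).1.1, hq2⟩
    refine ⟨L ++ [z], by simp [hLlen], ?_, ?_⟩
    · intro x hx
      rcases List.mem_append.1 hx with hx | hx
      · exact hL x hx
      · obtain rfl := List.mem_singleton.1 hx
        exact ⟨hzdeg, hzJ, fun q hq => hz q (Finset.mem_union_left _ hq)⟩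
    intro f n hn hf hfJ j hj Q hQ hle
    rcases Nat.lt_or_ge j (k + 1) with hjk | hjk
    · rw [List.take_append_of_le_length (by omega)] at hle
      exact hLh f n hn hf hfJ j (by omega) Q hQ hle
    · obtain rfl : j = k + 1 := by omega
      rw [List.take_of_length_le (by simp [hLlen]), Ideal.ofList_append, Ideal.ofList_singleton] at hle
      obtain ⟨d, -, hd⟩ := hzdeg
      refine le_height_insert 𝒜 hJh hn hf hfJ L rfl (fun x hx => (hL x hx).1.imp fun _ => And.right) (by omega)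
        (fun Q' hQ' hle' => hLh f n hn hf hfJ k le_rfl Q' hQ' (by rwa [List.take_of_length_le hLlen.le]))
        hd (fun q hq hfq hJq => hz q (Finset.mem_union_right _ (Finset.mem_filter.2
          ⟨(Set.Finite.mem_toFinset _).2 hq, hJq, fun hh => hfq (hh ?_)⟩))) Q hQ hle
      exact DirectSum.decompose_of_mem_ne 𝒜 hf hn.ne'

end Groth.Agent.GeomHeightLib
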